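import Mathlib

universe u

open TopologicalSpace Topology AlgebraicGeometry CategoryTheory

namespace Groth.Agent.GenFibLib

theorem component_iff {X : Scheme.{u}} (x : X) :
    closure {x} ∈ irreducibleComponents X ↔ ∀ y, y ⤳ x → y = x := by
  have hi : ∀ y : X, IsIrreducible (closure ({y} : Set X)) := fun y => isIrreducible_singleton.closure
  refine ⟨fun h y hy => ?_, fun h => ⟨hi x, fun W hW hle => ?_⟩⟩
  · have h1 : closure {x} ⊆ closure ({y} : Set X) :=
      closure_minimal (Set.singleton_subset_iff.2 (specializes_iff_mem_closure.1 hy)) isClosed_closure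
    have h2 : x ⤳ y := specializes_iff_mem_closure.2 (h.2 (hi y) h1 (subset_closure rfl))
    exact (hy.antisymm h2).eq
  · obtain ⟨w, hw⟩ := QuasiSober.sober hW.closure isClosed_closure
    have : w = x := h w (hw.specializes (subset_closure (hle (subset_closure rfl))))
    subst this
    exact subset_closure.trans hw.def.ge

theorem exists_component_generization {X : Scheme.{u}} (x : X) :
    ∃ ξ, ξ ⤳ x ∧ closure {ξ} ∈ irreducibleComponents X := by
  obtain ⟨ξ, hξ⟩ := QuasiSober.sober (isIrreducible_irreducibleComponent (x := x))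
    isClosed_irreducibleComponent
  exact ⟨ξ, hξ.specializes mem_irreducibleComponent,
    hξ.def ▸ irreducibleComponent_mem_irreducibleComponents x⟩

theorem isOpen_singleton_of_no_specializations {F : Scheme.{u}} [IsLocallyNoetherian F]
    (h : ∀ a b : F, a ⤳ b → a = b) (b : F) : IsOpen ({b} : Set F) := by
  obtain ⟨U, hU, hbU, -⟩ := exists_isAffineOpen_mem_and_subset (U := (⊤ : F.Opens)) (x := b) trivial
  haveI : IsAffine U := hU
  haveI : IsNoetherian (U : Scheme.{u}) := ⟨⟩
  have hcl : ∀ a : (U : Scheme.{u}), IsClosed ({a} : Set (U : Scheme.{u})) := fun a => by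
    rw [← closure_subset_iff_isClosed]
    intro c hc
    exact (Subtype.ext (h _ _ ((specializes_iff_mem_closure.2 hc).map U.ι.continuous))).symm
  haveI : Finite (U : Scheme.{u}) := by
    refine Set.finite_univ_iff.1 (((NoetherianSpace.finite_irreducibleComponents
      (α := (U : Scheme.{u}))).biUnion (t := fun s => s) fun s hs => ?_).subset
      fun a _ => Set.mem_biUnion (irreducibleComponent_mem_irreducibleComponents a)
        mem_irreducibleComponent)
    obtain ⟨w, hw⟩ := QuasiSober.sober hs.1 (isClosed_of_mem_irreducibleComponents s hs)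
    rw [← hw.def, (hcl w).closure_eq]
    exact Set.finite_singleton w
  have hopen : IsOpen ({⟨b, hbU⟩} : Set (U : Scheme.{u})) := by
    rw [← isClosed_compl_iff, ← Set.biUnion_of_singleton ({⟨b, hbU⟩}ᶜ : Set (U : Scheme.{u}))]
    exact (Set.toFinite _).isClosed_biUnion fun a _ => hcl a
  have := U.ι.isOpenEmbedding.isOpenMap _ hopen
  convert this using 1
  ext a
  exact ⟨fun ha => ⟨⟨b, hbU⟩, rfl, ha.symm⟩, fun ⟨c, hc, hca⟩ => by rw [← hca, Set.mem_singleton_iff.1 hc]; rfl⟩

theorem main {X Y : Scheme.{u}} (f : X ⟶ Y)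
    [LocallyOfFiniteType f] (η : Y) (hη : closure {η} ∈ irreducibleComponents ↥Y) :
    ((∀ x : X, f.base x = η → closure {x} ∈ irreducibleComponents ↥X) ↔
      (∀ x : X, f.base x = η → f.QuasiFiniteAt x)) ∧
    ((∀ x : X, f.base x = η → closure {x} ∈ irreducibleComponents ↥X) ↔
      (∀ x : X, f.base x = η → closure {x} ∈ irreducibleComponents ↥X → f.QuasiFiniteAt x)) := by
  have hgen : ∀ {y x : X}, y ⤳ x → f x = η → f y = η := fun {y x} h hx =>
    (component_iff η).1 hη _ (hx ▸ h.map f.continuous)
  have hqf : (∀ x : X, f.base x = η → closure {x} ∈ irreducibleComponents ↥X) →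
      ∀ x : X, f.base x = η → f.QuasiFiniteAt x := by
    intro h x hx
    rw [Scheme.Hom.quasiFiniteAt_iff_isOpen_singleton_asFiber]
    haveI : LocallyOfFiniteType (f.fiberToSpecResidueField (f x)) :=
      MorphismProperty.pullback_snd _ _ inferInstance
    haveI : IsLocallyNoetherian (f.fiber (f x)) :=
      LocallyOfFiniteType.isLocallyNoetherian (f.fiberToSpecResidueField (f x))
    refine isOpen_singleton_of_no_specializations (F := f.fiber (f x)) (fun a b hab => ?_) _
    have hb : f.base (f.fiberι (f x) b) = η := by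
      have : f.fiberι (f x) b ∈ Set.range (f.fiberι (f x)) := ⟨b, rfl⟩
      rw [Scheme.Hom.range_fiberι] at this
      exact Eq.trans this hx
    exact (f.fiberι (f x)).isEmbedding.injective
      ((component_iff _).1 (h _ hb) _ (hab.map (f.fiberι (f x)).continuous))
  have hback : (∀ x : X, f.base x = η → closure {x} ∈ irreducibleComponents ↥X → f.QuasiFiniteAt x) →
      ∀ x : X, f.base x = η → closure {x} ∈ irreducibleComponents ↥X := by
    intro h x hx
    obtain ⟨ξ, hξx, hξ⟩ := exists_component_generization x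
    have hξη : f ξ = η := hgen hξx hx
    have hcl := ((h ξ hξη hξ).isClopen_singleton_asFiber).isClosed
    obtain ⟨b, hb⟩ : x ∈ Set.range (f.fiberι (f ξ)) := by
      rw [Scheme.Hom.range_fiberι]; exact hx.trans hξη.symm
    have hspec : f.asFiber ξ ⤳ b := by
      rw [← (f.fiberι (f ξ)).isEmbedding.isInducing.specializes_iff, Scheme.Hom.fiberι_asFiber, hb]
      exact hξx
    have : b = f.asFiber ξ := hspec.mem_closed hcl rfl
    rw [this, Scheme.Hom.fiberι_asFiber] at hb
    exact hb ▸ hξ
  refine ⟨⟨hqf, fun h => hback fun x hx _ => h x hx⟩, ⟨fun h x hx _ => hqf h x hx, hback⟩⟩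

end Groth.Agent.GenFibLib
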